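import Cfsg.Agent.H290.ElCross
import Cfsg.Agent.H364.OutLie
import Cfsg.Agent.H867.TitsOut
import Cfsg.Agent.Prune
set_option linter.all false
prune_inst 0x7f00000000000000000000000000000000000000000000000000000000000000000000000000000000000000000000000000000000000000000000000000000000000000000000000000000000000000003fffffffffffffffffffffffffffbeffbdffffffff
open scoped Cfsg.Agent.FastGrp

/-!
# S5745, ENUM: simple groups in cross characteristic with a faithful representation of small degree (helper313)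

* `ou X p f` : the exact order of the outer automorphism group; `out_eq`, `aut_eq`;
* `lie_char` : the natural characteristic;
* `cases` : `T` simple nonabelian with a faithful representation of degree `n ≤ 248` in characteristic `p`, `T` not of Lie
  type in characteristic `p`: `T` is alternating, sporadic, the Tits group, or has a name `g` of shape `X` over the field
  of `l ^ a` elements with `l ≠ p` and `(X, l, a) ∈ reg n` (helper290).
-/

set_option autoImplicit false

namespace Cfsg.Agent.H313.EPX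

open Cfsg Cfsg.Agent.OrdDiv Finset
open Cfsg.Agent.H902 Cfsg.Agent.H902.Names Cfsg.Agent.H934.OutB Cfsg.Agent.H364.OutLie
open Cfsg.Agent.H290.ElReg Cfsg.Agent.H290.ElTab

universe u

/-- the order of the outer automorphism group -/
def ou : Art.Sh → ℕ → ℕ → ℕ
  | .L n, p, f => (if n = 2 then 1 else 2) * Nat.gcd n (p ^ f - 1) * f
  | .C n, p, f => (if n = 2 ∧ p = 2 then 2 else 1) * Nat.gcd 2 (p ^ f - 1) * f
  | .U n, p, f => 2 * Nat.gcd n (p ^ f + 1) * f
  | .D n, p, f => ((if n = 4 then 3 else 1) *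
      (if p = 2 then 2 else (if Even (n * (p ^ f - 1) / 2) then 8 else 4))) * f
  | .DD n, p, f => (if p = 2 then 2 else (if Even (n * (p ^ f - 1) / 2) then 4 else 8)) * f
  | .G2, p, f => (if p = 3 then 2 else 1) * f
  | .F4, p, f => Nat.gcd 2 p * f
  | .E6, p, f => 2 * Nat.gcd 3 (p ^ f - 1) * f
  | .E7, p, f => Nat.gcd 2 (p ^ f - 1) * f
  | .E8, _, f => f
  | .TE6, p, f => 2 * Nat.gcd 3 (p ^ f + 1) * f
  | .TD4, _, f => 3 * f
  | .Sz, _, f => f
  | .Ree, _, f => f
  | .TF4, _, f => f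

/-- **The exact order of the outer automorphism group.** -/
theorem out_eq {S : Type u} [Group S] [Finite S] [IsSimpleGroup S] (hna : ¬ ∀ a b : S, a * b = b * a)
    {g : Grp} {X : Art.Sh} {p f : ℕ} (hg : IsLie g X p f) (h : OrdDiv.Real g S) (hr : Art.Real X p f (Nat.card S)) :
    Nat.card (Cfsg.Out S) = ou X p f := by
  have hna' : ¬ IsMulCommutative S := fun hc => hna fun a b => hc.is_comm.comm a b
  obtain ⟨hp, hf, hok, -⟩ := hr
  have hpf := Fact.mk hp
  cases hg with
  | psl n p f =>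
    obtain ⟨F, _, _, hF, ⟨e⟩⟩ := h
    have h1 := Cfsg.Agent.S0813.result p f hf hF n hok.1 hok.2
    rw [card_pgl hok.1, hF] at h1
    refine card_out_of_aut hna' ?_
    rw [mulaut_congr e, h1, Nat.card_congr e.toEquiv]
    unfold ou
    ring
  | psp n p f =>
    obtain ⟨F, _, _, hF, ⟨e⟩⟩ := h
    have h1 := Cfsg.Agent.S0814.result p f hf hF n hok.1 hok.2
    refine card_out_of_aut hna' ?_
    rw [mulaut_congr e, h1, Nat.card_congr e.toEquiv]
    unfold ou
    ring
  | oodd n p f hn ho =>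
    obtain ⟨F, _, _, hF, ⟨e⟩⟩ := h
    have hpo : Odd p := by
      rcases hp.eq_two_or_odd' with h | h
      · subst h
        exact absurd ho (by rw [Nat.not_odd_iff_even]; exact (even_two.pow_of_ne_zero (by omega)))
      · exact h
    have h1 := Cfsg.Agent.S0816.result p f hf hF hpo n hn
    have h2 : ou (.C n) p f = 2 * f := by
      show (if n = 2 ∧ p = 2 then 2 else 1) * Nat.gcd 2 (p ^ f - 1) * f = 2 * f
      rw [if_neg (by omega), one_mul]
      congr 1
      apply Nat.gcd_eq_left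
      have h3 : 1 ≤ p ^ f := Nat.one_le_pow _ _ hp.pos
      obtain ⟨k, hk⟩ := ho
      exact ⟨k, by omega⟩
    refine card_out_of_aut hna' ?_
    rw [h2, mulaut_congr e, h1, Nat.card_congr e.toEquiv]
  | psu n p f =>
    obtain ⟨F, _, _, hF, ⟨e⟩⟩ := h
    have h1 := Cfsg.Agent.S0815.result p f hf rfl hF n hok.1 (fun h => by have := hok.2 h.1; omega)
    refine card_out_of_aut hna' ?_
    rw [mulaut_congr e, h1, Nat.card_congr e.toEquiv]
    unfold ou
    ring
  | oplus n p f =>
    obtain ⟨F, _, _, hF, ⟨e⟩⟩ := h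
    have h1 := Cfsg.Agent.S0817.result p f hf hF n hok
    refine card_out_of_aut hna' ?_
    rw [mulaut_congr e, h1, Nat.card_congr e.toEquiv]
    rfl
  | ominus n p f =>
    obtain ⟨F, _, _, a, b, hF, hab, ⟨e⟩⟩ := h
    have h1 := Cfsg.Agent.S0818.result p f hf hF n hok a b hab
    refine card_out_of_aut hna' ?_
    rw [mulaut_congr e, h1, Nat.card_congr e.toEquiv]
    rfl
  | g2 p f =>
    obtain ⟨F, _, _, hF, ⟨e⟩⟩ := h
    have := charP_of_card hp hf hF
    rw [card_out_congr e, Cfsg.Agent.S2121.result p f hF hok]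
    show _ = (if p = 3 then 2 else 1) * f
    split_ifs <;> ring
  | f4 p f =>
    obtain ⟨F, _, _, hF, ⟨e⟩⟩ := h
    have := charP_of_card hp hf hF
    rw [card_out_congr e, Cfsg.Agent.S2122.result p f hF]
    rfl
  | e6 p f =>
    obtain ⟨F, _, _, hF, ⟨e⟩⟩ := h
    have := charP_of_card hp hf hF
    rw [card_out_congr e, Cfsg.Agent.S2123.result p f hF]
    rfl
  | e7 p f =>
    obtain ⟨F, _, _, hF, ⟨e⟩⟩ := h
    have := charP_of_card hp hf hF
    rw [card_out_congr e, Cfsg.Agent.S2124.result p f hF]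
    rfl
  | e8 p f =>
    obtain ⟨F, _, _, hF, ⟨e⟩⟩ := h
    have := charP_of_card hp hf hF
    rw [card_out_congr e, Cfsg.Agent.S2125.result p f hF]
    rfl
  | te6 p f =>
    obtain ⟨F, _, _, hF, ⟨e⟩⟩ := h
    have hF' : Fintype.card F = p ^ (2 * f) := by rw [hF, ← pow_mul, mul_comm]
    have := charP_of_card hp (by omega) hF'
    rw [card_out_congr e, Cfsg.Agent.S2130.result p f hF' hf]
    rfl
  | td4 p f =>
    obtain ⟨F, _, _, hF, ⟨e⟩⟩ := h
    have hF' : Fintype.card F = p ^ (3 * f) := by rw [hF, ← pow_mul, mul_comm]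
    have := charP_of_card hp (by omega) hF'
    rw [card_out_congr e, Cfsg.Agent.S2129.result p f hF' hf]
    rfl
  | sz p f =>
    obtain ⟨F, _, _, m, hm, hF, hq, ⟨e⟩⟩ := h
    obtain ⟨rfl, -, -⟩ := hok
    have hfm : f = 2 * m + 1 := Nat.pow_right_injective (le_refl 2) hq
    rw [card_out_congr e, Cfsg.Agent.S2126.result hm (hF.trans hq), hfm]
    rfl
  | ree p f =>
    obtain ⟨F, _, _, m, hm, hF, hq, ⟨e⟩⟩ := h
    obtain ⟨rfl, -, -⟩ := hok
    have hfm : f = 2 * m + 1 := Nat.pow_right_injective (by norm_num : 2 ≤ 3) hq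
    rw [card_out_congr e, Cfsg.Agent.S2127.result hm (hF.trans hq), hfm]
    rfl
  | tf4 p f =>
    obtain ⟨F, _, _, m, hm, hF, hq, ⟨e⟩⟩ := h
    obtain ⟨rfl, -, -⟩ := hok
    have hfm : f = 2 * m + 1 := Nat.pow_right_injective (le_refl 2) hq
    rw [card_out_congr e, Cfsg.Agent.S2128.result hm (hF.trans hq), hfm]
    rfl

theorem aut_eq {S : Type u} [Group S] [Finite S] [IsSimpleGroup S] (hna : ¬ ∀ a b : S, a * b = b * a)
    {g : Grp} {X : Art.Sh} {p f : ℕ} (hg : IsLie g X p f) (h : OrdDiv.Real g S) (hr : Art.Real X p f (Nat.card S)) :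
    Nat.card (MulAut S) = ou X p f * Nat.card S := by
  rw [← card_out_mul S (fun hc => hna fun a b => hc.is_comm.comm a b), out_eq hna hg h hr]

/-- the order of the simple group of shape `X` over the field of `l ^ a` elements, computable -/
def oN (X : Art.Sh) (l a : ℕ) : ℕ := ((l ^ a) ^ Art.NN X * numL X (l ^ a)) / Art.dd X (l ^ a)

theorem dd_pos {X : Art.Sh} {l a : ℕ} (hok : Art.Ok X l a) : 0 < Art.dd X (l ^ a) := by
  cases X with
  | L n => exact Nat.gcd_pos_of_pos_left _ (by have := hok.1; omega)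
  | C n => exact Nat.gcd_pos_of_pos_left _ (by norm_num)
  | U n => exact Nat.gcd_pos_of_pos_left _ (by have := hok.1; omega)
  | D n => exact Nat.gcd_pos_of_pos_left _ (by norm_num)
  | DD n => exact Nat.gcd_pos_of_pos_left _ (by norm_num)
  | E6 => exact Nat.gcd_pos_of_pos_left _ (by norm_num)
  | E7 => exact Nat.gcd_pos_of_pos_left _ (by norm_num)
  | TE6 => exact Nat.gcd_pos_of_pos_left _ (by norm_num)
  | _ => exact Nat.one_pos

theorem oN_eq {X : Art.Sh} {l a M : ℕ} (hr : Art.Real X l a M) : M = oN X l a := by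
  unfold oN
  rw [numL_eq, ← hr.eq, Nat.mul_div_cancel_left _ (dd_pos hr.ok)]

/-! ### The natural characteristic -/

theorem lie_char {S : Type u} [Group S] {g : Grp} {X : Art.Sh} {p f M : ℕ} (hg : IsLie g X p f) (h : OrdDiv.Real g S)
    (hr : Art.Real X p f M) : IsLieTypeChar p S := by
  obtain ⟨hp, hf, hok, -⟩ := hr
  cases hg with
  | psl n p f =>
    obtain ⟨F, i1, i2, hF, e⟩ := h
    exact Or.inl ⟨F, i1, i2, charP_of_card hp hf hF, n, hok.1, fun hn => by rw [hF]; exact hok.2 hn, e⟩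
  | psp n p f =>
    obtain ⟨F, i1, i2, hF, e⟩ := h
    exact Or.inr (Or.inl ⟨F, i1, i2, charP_of_card hp hf hF, n, hok.1, fun hn => by rw [hF]; exact hok.2 hn, e⟩)
  | psu n p f =>
    obtain ⟨F, i1, i2, hF, e⟩ := h
    have hF' : Fintype.card F = p ^ (f * 2) := by rw [hF, ← pow_mul]
    exact Or.inr (Or.inr (Or.inl ⟨F, i1, i2, charP_of_card hp (by omega) hF', n, p ^ f, hF, hok.1,
      fun hn => by have := hok.2 hn.1; omega, e⟩))
  | oodd n p f hn ho =>
    obtain ⟨F, i1, i2, hF, e⟩ := h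
    exact Or.inr (Or.inr (Or.inr (Or.inl ⟨F, i1, i2, charP_of_card hp hf hF, n, hn, by rwa [hF], e⟩)))
  | oplus n p f =>
    obtain ⟨F, i1, i2, hF, e⟩ := h
    exact Or.inr (Or.inr (Or.inr (Or.inr (Or.inl ⟨F, i1, i2, charP_of_card hp hf hF, n, hok, e⟩))))
  | ominus n p f =>
    obtain ⟨F, i1, i2, a, b, hF, hab, e⟩ := h
    exact Or.inr (Or.inr (Or.inr (Or.inr (Or.inr (Or.inl ⟨F, i1, i2, charP_of_card hp hf hF, n, a, b, hok, hab, e⟩)))))
  | g2 p f =>
    obtain ⟨F, i1, i2, hF, e⟩ := h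
    exact Or.inr (Or.inr (Or.inr (Or.inr (Or.inr (Or.inr (Or.inl ⟨F, i1, i2, charP_of_card hp hf hF,
      Or.inl ⟨by rw [hF]; exact hok, e⟩⟩))))))
  | f4 p f =>
    obtain ⟨F, i1, i2, hF, e⟩ := h
    exact Or.inr (Or.inr (Or.inr (Or.inr (Or.inr (Or.inr (Or.inl ⟨F, i1, i2, charP_of_card hp hf hF,
      Or.inr (Or.inl e)⟩))))))
  | e6 p f =>
    obtain ⟨F, i1, i2, hF, e⟩ := h
    exact Or.inr (Or.inr (Or.inr (Or.inr (Or.inr (Or.inr (Or.inl ⟨F, i1, i2, charP_of_card hp hf hF,
      Or.inr (Or.inr (Or.inl e))⟩))))))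
  | e7 p f =>
    obtain ⟨F, i1, i2, hF, e⟩ := h
    exact Or.inr (Or.inr (Or.inr (Or.inr (Or.inr (Or.inr (Or.inl ⟨F, i1, i2, charP_of_card hp hf hF,
      Or.inr (Or.inr (Or.inr (Or.inl e)))⟩))))))
  | e8 p f =>
    obtain ⟨F, i1, i2, hF, e⟩ := h
    exact Or.inr (Or.inr (Or.inr (Or.inr (Or.inr (Or.inr (Or.inl ⟨F, i1, i2, charP_of_card hp hf hF,
      Or.inr (Or.inr (Or.inr (Or.inr e)))⟩))))))
  | te6 p f =>
    obtain ⟨F, i1, i2, hF, e⟩ := h
    have hF' : Fintype.card F = p ^ (f * 2) := by rw [hF, ← pow_mul]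
    exact Or.inr (Or.inr (Or.inr (Or.inr (Or.inr (Or.inr (Or.inr (Or.inl ⟨F, i1, i2, charP_of_card hp (by omega) hF',
      p ^ f, hp.isPrimePow.pow (by omega), Or.inl ⟨hF, e⟩⟩)))))))
  | td4 p f =>
    obtain ⟨F, i1, i2, hF, e⟩ := h
    have hF' : Fintype.card F = p ^ (f * 3) := by rw [hF, ← pow_mul]
    exact Or.inr (Or.inr (Or.inr (Or.inr (Or.inr (Or.inr (Or.inr (Or.inl ⟨F, i1, i2, charP_of_card hp (by omega) hF',
      p ^ f, hp.isPrimePow.pow (by omega), Or.inr ⟨hF, e⟩⟩)))))))
  | sz p f =>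
    obtain ⟨F, i1, i2, m, hm, hF, hq, e⟩ := h
    exact Or.inr (Or.inr (Or.inr (Or.inr (Or.inr (Or.inr (Or.inr (Or.inr (Or.inl ⟨hok.1, F, i1, i2, m, hm,
      hF.trans hq, e⟩))))))))
  | tf4 p f =>
    obtain ⟨F, i1, i2, m, hm, hF, hq, e⟩ := h
    exact Or.inr (Or.inr (Or.inr (Or.inr (Or.inr (Or.inr (Or.inr (Or.inr (Or.inr (Or.inl ⟨hok.1, F, i1, i2, m, hm,
      hF.trans hq, e⟩)))))))))
  | ree p f =>
    obtain ⟨F, i1, i2, m, hm, hF, hq, e⟩ := h
    exact Or.inr (Or.inr (Or.inr (Or.inr (Or.inr (Or.inr (Or.inr (Or.inr (Or.inr (Or.inr ⟨hok.1, F, i1, i2, m, hm,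
      hF.trans hq, e⟩)))))))))

/-! ### The list -/

theorem real_spor {S : Type u} [Group S] {g : Grp} (hg : g ∈ spor.map (fun x => x.1)) (h : OrdDiv.Real g S) :
    IsSporadicGroup S ∨ Lie.IsoTits S := by
  simp only [spor, List.map_cons, List.map_nil, List.mem_cons, List.not_mem_nil, or_false] at hg
  unfold IsSporadicGroup
  rcases hg with rfl | rfl | rfl | rfl | rfl | rfl | rfl | rfl | rfl | rfl | rfl | rfl | rfl | rfl | rfl | rfl | rfl |
    rfl | rfl | rfl | rfl | rfl | rfl | rfl | rfl | rfl | rfl <;>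
  · change _ at h
    simp only [OrdDiv.Real] at h
    simp only [h, true_or, or_true]

/-- **The candidates.** -/
inductive Cand (p n : ℕ) (T : Type u) [Group T] : Prop
  | alt (m : ℕ) (hm : 5 ≤ m) (h : Nonempty (T ≃* ↥(alternatingGroup (Fin m)))) : Cand p n T
  | tits (h : Lie.IsoTits T) : Cand p n T
  | spor (h : IsSporadicGroup T) : Cand p n T
  | lie (g : Grp) (X : Art.Sh) (l a : ℕ) (hg : IsLie g X l a) (h : OrdDiv.Real g T) (hr : Art.Real X l a (Nat.card T))
      (hlp : l ≠ p) (hm : (X, (l, a)) ∈ reg n) : Cand p n T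

theorem cand (tab : OrderTable.{0}) {n : ℕ} (hn : n ≤ 248) {F : Type} [Field F] {p : ℕ} [Fact p.Prime] [CharP F p] {T : Type} [Group T]
    [Finite T] [IsSimpleGroup T] (hk : IsKnownSimple' T) (hna : ¬ ∀ a b : T, a * b = b * a) (hf : Fth n F T)
    (hL : ¬ IsLieTypeChar p T) : Cand p n T := by
  rcases exists_nam tab hk hna with ⟨m, hm, h, -⟩ | ⟨g, X, l, a, hg, h, hr⟩ | ⟨x, hx, h, -⟩
  · exact .alt m hm h
  · have hlp : l ≠ p := by
      rintro rfl
      exact hL (lie_char hg h hr)
    refine .lie g X l a hg h hr hlp (H290.ElCross.mem_reg hn hr.hp hr.hf hr.ok (lb_le hna hn hf hg h hr ?_))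
    intro h0
    exact hlp ((Nat.prime_dvd_prime_iff_eq (Fact.out : p.Prime) hr.hp).1 ((CharP.cast_eq_zero_iff F p l).1 h0)).symm
  · rcases real_spor (List.mem_map_of_mem hx) h with h1 | h1
    · exact .spor h1
    · exact .tits h1

theorem aut_tits (tab : OrderTable.{u}) {T : Type u} [Group T] [Finite T] [IsSimpleGroup T] (hna : ¬ ∀ a b : T, a * b = b * a)
    (h : Lie.IsoTits T) : Nat.card (MulAut T) ∣ 2 * 17971200 := by
  rw [← card_out_mul T (fun hc => hna fun a b => hc.is_comm.comm a b)]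
  have h1 : Nat.card T = 17971200 := tab.spor T (.tits, 17971200) (by decide) h
  rw [h1]
  refine Nat.mul_dvd_mul_right ?_ _
  have h2 := H867.TitsOut.card_out_le h
  have h3 : 0 < Nat.card (Cfsg.Out T) := by
    rcases Nat.eq_zero_or_pos (Nat.card (Cfsg.Out T)) with h4 | h4
    · exfalso
      have h5 := card_out_mul T (fun hc => hna fun a b => hc.is_comm.comm a b)
      rw [h4, zero_mul] at h5
      exact absurd h5 (Nat.card_pos (α := MulAut T)).ne
    · exact h4
  interval_cases (Nat.card (Cfsg.Out T)) <;> norm_num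

end Cfsg.Agent.H313.EPX

private theorem dce_075e078b6356 : _root_.True := by
  try have : _root_.True := by simp only [_root_.Cfsg.Agent.OrdDiv.Real.eq_6]
  try have : _root_.True := by simp only [_root_.Cfsg.Agent.OrdDiv.Real.eq_36]
  try have : _root_.True := by simp only [_root_.Cfsg.Agent.OrdDiv.Real.eq_33]
  try have : _root_.True := by simp only [_root_.Cfsg.Agent.OrdDiv.Real.eq_12]
  try have : _root_.True := by simp only [_root_.Cfsg.Agent.OrdDiv.Real.eq_30]
  try have : _root_.True := by simp only [_root_.Cfsg.Agent.OrdDiv.Real.eq_22]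
  try have : _root_.True := by simp only [_root_.Cfsg.Agent.OrdDiv.Real.eq_39]
  try have : _root_.True := by simp only [_root_.Cfsg.Agent.OrdDiv.Real.eq_2]
  try have : _root_.True := by simp only [_root_.Cfsg.Agent.OrdDiv.Real.eq_27]
  try have : _root_.True := by simp only [_root_.Cfsg.Agent.OrdDiv.Real.eq_38]
  try have : _root_.True := by simp only [_root_.Cfsg.Agent.OrdDiv.Real.eq_35]
  try have : _root_.True := by simp only [_root_.Cfsg.Agent.OrdDiv.Real.eq_17]
  try have : _root_.True := by simp only [_root_.Cfsg.Agent.OrdDiv.Real.eq_29]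
  try have : _root_.True := by simp only [_root_.Cfsg.Agent.OrdDiv.Real.eq_4]
  try have : _root_.True := by simp only [_root_.Cfsg.Agent.OrdDiv.Real.eq_8]
  try have : _root_.True := by simp only [_root_.Cfsg.Agent.OrdDiv.Real.eq_21]
  try have : _root_.True := by simp only [_root_.Cfsg.Agent.OrdDiv.Real.eq_31]
  try have : _root_.True := by simp only [_root_.Cfsg.Agent.OrdDiv.Real.eq_10]
  try have : _root_.True := by simp only [_root_.Cfsg.Agent.OrdDiv.Real.eq_18]
  try have : _root_.True := by simp only [_root_.Cfsg.Agent.OrdDiv.Real.eq_7]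
  try have : _root_.True := by simp only [_root_.Cfsg.Agent.OrdDiv.Real.eq_9]
  try have : _root_.True := by simp only [_root_.Cfsg.Agent.OrdDiv.Real.eq_32]
  try have : _root_.True := by simp only [_root_.Cfsg.Agent.OrdDiv.Real.eq_5]
  try have : _root_.True := by simp only [_root_.Cfsg.Agent.OrdDiv.Real.eq_34]
  try have : _root_.True := by simp only [_root_.Cfsg.Agent.OrdDiv.Real.eq_19]
  try have : _root_.True := by simp only [_root_.Cfsg.Agent.OrdDiv.Real.eq_3]
  try have : _root_.True := by simp only [_root_.Cfsg.Agent.OrdDiv.Real.eq_11]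
  try have : _root_.True := by simp only [_root_.Cfsg.Agent.OrdDiv.Real.eq_25]
  try have : _root_.True := by simp only [_root_.Cfsg.Agent.OrdDiv.Real.eq_41]
  try have : _root_.True := by simp only [_root_.Cfsg.Agent.OrdDiv.Real.eq_14]
  try have : _root_.True := by simp only [_root_.Cfsg.Agent.OrdDiv.Real.eq_28]
  try have : _root_.True := by simp only [_root_.Cfsg.Agent.OrdDiv.Real.eq_43]
  try have : _root_.True := by simp only [_root_.Cfsg.Agent.OrdDiv.Real.eq_1]
  try have : _root_.True := by simp only [_root_.Cfsg.Agent.OrdDiv.Real.eq_15]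
  try have : _root_.True := by simp only [_root_.Cfsg.Agent.OrdDiv.spor.eq_1]
  try have : _root_.True := by simp only [_root_.Cfsg.Agent.OrdDiv.Real.eq_13]
  try have : _root_.True := by simp only [_root_.Cfsg.Agent.OrdDiv.Real.eq_24]
  try have : _root_.True := by simp only [_root_.Cfsg.Agent.OrdDiv.Real.eq_42]
  try have : _root_.True := by simp only [_root_.Cfsg.Agent.OrdDiv.Real.eq_23]
  try have : _root_.True := by simp only [_root_.Cfsg.Agent.OrdDiv.Real.eq_16]
  try have : _root_.True := by simp only [_root_.Cfsg.Agent.OrdDiv.Real.eq_20]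
  try have : _root_.True := by simp only [_root_.Cfsg.Agent.OrdDiv.Real.eq_44]
  try have : _root_.True := by simp only [_root_.Cfsg.Agent.OrdDiv.Real.eq_26]
  try have : _root_.True := by simp only [_root_.Cfsg.Agent.OrdDiv.Real.eq_37]
  try have : _root_.True := by simp only [_root_.Cfsg.Agent.OrdDiv.Real.eq_40]
  exact _root_.True.intro
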